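import Cfsg.Agent.H627.Gow.Mackey
import Cfsg.Agent.H53.HC.Prod

/-!
# Harish-Chandra induction of `θ × 1` (helper627, S4913)

`G` a finite group with a root group datum, `K`, `K'` orthogonal sets of nodes, `P = P_(K ∪ K')`.

`Ret c` : `c : P → M_K` is a retraction killing `V_(K ∪ K')` and `M_K'`.

* `exists_ret` : `c` exists if `M_K` has trivial centre and `T` acts on `M_K` by inner automorphisms;
* `twist_zero` : `θ`, `θ'` characters of `M_K`, `θ` cuspidal: the Mackey term of `θ ∘ c`, `θ' ∘ c` at an element over `w`,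
  `w` minimal in its double coset, vanishes unless `w` permutes the simple roots of `K`;
* `inner_le_rgd` : the upper bound for the inner product of the induced characters.
-/

set_option autoImplicit false
set_option linter.unusedSectionVars false

open scoped ComplexConjugate
open Cfsg

namespace Cfsg.Agent.H627.Gow

open Cfsg.Agent.OddOrderCharacters.Clifford Cfsg.Agent.Characters Cfsg.Agent.H53.HC

open CoxeterSystem Cfsg.Agent.ChevalleyStructure.CoxeterGeom Cfsg.Agent.Tits.Roots Cfsg.Agent.Tits.Core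
  Cfsg.Agent.Tits.Exchange Cfsg.Agent.Nodes.Reps Cfsg.Agent.Nodes.BNOf Cfsg.Agent.Nodes.StabComb
  Cfsg.Agent.Nodes.Bruhat Cfsg.Agent.Nodes.OppDec Cfsg.Agent.Nodes.LeviDec

variable {I W Y : Type*} [Fintype I] [DecidableEq I] [Group W] [Group Y] {M : CoxeterMatrix I}
  {cs : CoxeterSystem M W} {A : I → I → ℤ} {h : IsCartan M A} {p : ℕ} {T : Subgroup Y} {n : I → Y}
  {X : (I → ℤ) → Subgroup Y}

theorem RootsJ_mono {K J : Set I} (hKJ : K ⊆ J) : RootsJ cs h K ⊆ RootsJ cs h J :=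
  fun _ hx => ⟨hx.1, fun k hk => hx.2 k fun hk' => hk (hKJ hk')⟩

theorem MJ_mono {K J : Set I} (hKJ : K ⊆ J) : MJ cs h X K ≤ MJ cs h X J := RGD.Sup_mono (RootsJ_mono hKJ)

theorem MJ_le_PJ {K J : Set I} (hKJ : K ⊆ J) : MJ cs h X K ≤ PJ cs h T X J :=
  le_trans (MJ_mono hKJ) (le_trans (MJ_le_LJ J) LJ_le_PJ)

theorem MJ_le_left {K K' : Set I} : MJ cs h X K ≤ PJ cs h T X (K ∪ K') := MJ_le_PJ Set.subset_union_left

theorem MJ_le_right {K K' : Set I} : MJ cs h X K' ≤ PJ cs h T X (K ∪ K') := MJ_le_PJ Set.subset_union_right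

/-- `c` is a retraction of `P_(K ∪ K')` to `M_K` which kills `V_(K ∪ K')` and `M_K'`. -/
structure Ret (cs : CoxeterSystem M W) (h : IsCartan M A) (T : Subgroup Y) (X : (I → ℤ) → Subgroup Y) (K K' : Set I)
    (c : ↥(PJ cs h T X (K ∪ K')) →* ↥(MJ cs h X K)) : Prop where
  fix : ∀ (m : Y) (hm : m ∈ MJ cs h X K), c ⟨m, MJ_le_left hm⟩ = ⟨m, hm⟩
  killV : ∀ (v : Y) (hv : v ∈ VJ cs h X (K ∪ K')), c ⟨v, VJ_le_PJ hv⟩ = 1
  killM : ∀ (m : Y) (hm : m ∈ MJ cs h X K'), c ⟨m, MJ_le_right hm⟩ = 1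

/-- `θ` is a cuspidal class function -/
def Van (cs : CoxeterSystem M W) (h : IsCartan M A) (X : (I → ℤ) → Subgroup Y) (K : Set I)
    (θ : ↥(MJ cs h X K) → ℂ) : Prop :=
  ∀ i ∈ K, ∀ [Fintype (rad cs h X K i)], ∑ u : rad cs h X K i, θ ⟨u, rad_le_MJ K i u.2⟩ = 0

/-- `w` is minimal in `W_J w W_J` -/
def Min (cs : CoxeterSystem M W) (h : IsCartan M A) (J : Set I) (w : W) : Prop :=
  (∀ i ∈ J, 0 ≤ rep cs h w⁻¹ (sr i)) ∧ ∀ i ∈ J, 0 ≤ rep cs h w (sr i)

theorem Min.mono {K J : Set I} (hKJ : K ⊆ J) {w : W} (hw : Min cs h J w) : Min cs h K w :=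
  ⟨fun i hi => hw.1 i (hKJ hi), fun i hi => hw.2 i (hKJ hi)⟩

variable {K K' : Set I} {c : ↥(PJ cs h T X (K ∪ K')) →* ↥(MJ cs h X K)}

namespace Ret

theorem surj (hc : Ret cs h T X K K' c) : Function.Surjective c :=
  fun m => ⟨⟨m, MJ_le_left m.2⟩, hc.fix m m.2⟩

/-- the kernel of `c` as a subgroup of `G` -/
def kerc (c : ↥(PJ cs h T X (K ∪ K')) →* ↥(MJ cs h X K)) : Subgroup Y := c.ker.map (Subgroup.subtype _)

theorem mem_kerc {y : Y} : y ∈ kerc c ↔ ∃ hy : y ∈ PJ cs h T X (K ∪ K'), c ⟨y, hy⟩ = 1 := by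
  unfold kerc
  rw [Subgroup.mem_map]
  constructor
  · rintro ⟨z, hz, rfl⟩
    exact ⟨z.2, hz⟩
  · rintro ⟨hy, h1⟩
    exact ⟨⟨y, hy⟩, h1, rfl⟩

theorem VJ_le (hc : Ret cs h T X K K' c) : VJ cs h X (K ∪ K') ≤ kerc c :=
  fun v hv => mem_kerc.2 ⟨VJ_le_PJ hv, hc.killV v hv⟩

theorem MJ_le (hc : Ret cs h T X K K' c) : MJ cs h X K' ≤ kerc c :=
  fun v hv => mem_kerc.2 ⟨MJ_le_right hv, hc.killM v hv⟩

theorem irr [Finite Y] (hc : Ret cs h T X K K' c) {θ : ↥(MJ cs h X K) → ℂ} (hθ : IsIrrCharacter _ θ) :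
    IsIrrCharacter _ (θ ∘ c) := Core.isIrr_comp c hc.surj hθ

/-- the positive roots outside `K` generate a subgroup killed by `c` -/
theorem NotJ_le [Finite W] (ho : Orth A K K') (hc : Ret cs h T X K K' c) : RGD.Sup X (NotJ cs h K) ≤ kerc c := by
  refine RGD.Sup_le fun x hx => ?_
  obtain ⟨hr, h0, k, hk, hk0⟩ := hx
  rcases mem_PosJ_or_NotJ (K ∪ K') hr h0 with h1 | h1
  · rcases ho.roots (PosJ_subset _ h1) with h2 | h2
    · exact absurd (h2.2 k hk) hk0.ne'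
    · exact le_trans (RGD.le_Sup h2) hc.MJ_le
  · exact le_trans (RGD.le_Sup h1) hc.VJ_le

variable (R : RGD cs h p T n X)

include R

/-- **The Mackey term of a minimal `w` vanishes unless `w` permutes the simple roots of `K`.** -/
theorem twist_zero [Finite W] [Fintype Y] [Fintype ↥(PJ cs h T X (K ∪ K'))] (ho : Orth A K K')
    (hc : Ret cs h T X K K' c) {θ θ' : ↥(MJ cs h X K) → ℂ} (hθ : IsCharacter _ θ) (hθ' : IsCharacter _ θ')
    (hv : Van cs h X K θ) {w : W} {g : Y} (hg : Rp cs R.nsys w g) (hw : Min cs h (K ∪ K') w)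
    (hp : ¬ Perm cs h K w) : twist (PJ cs h T X (K ∪ K')) (θ ∘ c) (θ' ∘ c) g = 0 := by
  classical
  obtain ⟨hw1, hw2⟩ := hw.mono (K := K) Set.subset_union_left
  rcases perm_or hw1 hw2 with h1 | ⟨i, hi, hrad⟩
  · exact absurd h1 hp
  have hconj : ∀ l ∈ rad cs h X K i, g⁻¹ * l * g ∈ kerc c := fun l hl =>
    hc.NotJ_le ho (conj_mem_Sup' R hg (fun x hx => hx.1.1) hrad hl)
  have hker : ∀ l ∈ rad cs h X K i, ∃ hy : g⁻¹ * l * g ∈ PJ cs h T X (K ∪ K'), c ⟨g⁻¹ * l * g, hy⟩ = 1 :=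
    fun l hl => mem_kerc.1 (hconj l hl)
  have : Fintype (rad cs h X K i) := Fintype.ofFinite _
  refine twist_eq_zero_of_sub _ (Core.isCharacter_comp c hθ) (Core.isCharacter_comp c hθ') g (rad cs h X K i)
    (le_trans (rad_le_MJ K i) MJ_le_left) (fun l hl => (hker l hl).1) ?_
  have h3 : ∀ l : rad cs h X K i, (θ ∘ c) ⟨l, le_trans (rad_le_MJ K i) MJ_le_left l.2⟩ *
      conj ((θ' ∘ c) ⟨g⁻¹ * l * g, (hker l l.2).1⟩) = θ ⟨l, rad_le_MJ K i l.2⟩ * conj (θ' 1) := by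
    intro l
    rw [Function.comp_apply, Function.comp_apply, (hker l l.2).2, hc.fix l (rad_le_MJ K i l.2)]
  rw [Finset.sum_congr rfl fun l _ => h3 l, ← Finset.sum_mul, hv i hi, zero_mul]

/-- If `w` permutes the simple roots of `K`, the Mackey term is zero or one. -/
theorem mterm_perm [Finite W] [Fintype Y] [Fintype ↥(PJ cs h T X (K ∪ K'))]
    (hc : Ret cs h T X K K' c) {θ θ' : ↥(MJ cs h X K) → ℂ} (hθ : IsIrrCharacter _ θ) (hθ' : IsIrrCharacter _ θ')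
    {w : W} {g : Y} (hg : Rp cs R.nsys w g) (hp : Perm cs h K w) :
    (mterm (PJ cs h T X (K ∪ K')) (θ ∘ c) (θ' ∘ c) g = 0 ∨ mterm (PJ cs h T X (K ∪ K')) (θ ∘ c) (θ' ∘ c) g = 1) ∧
      ((∀ (t : Y) (ht : t ∈ PJ cs h T X (K ∪ K')) (ht' : g⁻¹ * t * g ∈ PJ cs h T X (K ∪ K')),
        θ (c ⟨t, ht⟩) = θ' (c ⟨g⁻¹ * t * g, ht'⟩)) → mterm (PJ cs h T X (K ∪ K')) (θ ∘ c) (θ' ∘ c) g = 1) := by
  classical
  have hm : ∀ m ∈ MJ cs h X K, g⁻¹ * m * g ∈ MJ cs h X K := fun m hm => conj_mem_MJ R hg hp hm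
  have hgn := inv_mem (rp_mem_normalizer_MJ R hg hp)
  refine mterm_cases (Core.isCharacter_comp c (Core.isIrr_isCharacter hθ))
    (Core.isCharacter_comp c (Core.isIrr_isCharacter hθ')) g (MJ cs h X K) MJ_le_left
    (fun m h1 => MJ_le_left (hm m h1)) ?_ ?_
  · have e : (fun l : MJ cs h X K => (θ ∘ c) ⟨l, MJ_le_left l.2⟩) = θ := by
      funext l
      rw [Function.comp_apply, hc.fix l l.2]
    rw [e]
    exact hθ
  · have e : (fun l : MJ cs h X K => (θ' ∘ c) ⟨g⁻¹ * l * g, MJ_le_left (hm l l.2)⟩) =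
        θ' ∘ conjME (MJ cs h X K) hgn := by
      funext l
      rw [Function.comp_apply, hc.fix _ (hm l l.2), Function.comp_apply]
      congr 1
      apply Subtype.ext
      rw [conjME_coe, inv_inv]
    rw [e]
    exact Core.isIrr_comp (conjME _ hgn).toMonoidHom (MulEquiv.surjective _) hθ'

/-- If `w` permutes the simple roots of `K`, and the Mackey term is not zero then `θ` and the conjugate of `θ'`
agree on `M_K`. -/
theorem eq_of_twist [Finite W] [Fintype Y] [Fintype ↥(PJ cs h T X (K ∪ K'))]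
    (hc : Ret cs h T X K K' c) {θ θ' : ↥(MJ cs h X K) → ℂ} (hθ : IsIrrCharacter _ θ) (hθ' : IsIrrCharacter _ θ')
    {w : W} {g : Y} (hg : Rp cs R.nsys w g) (hp : Perm cs h K w)
    (h1 : twist (PJ cs h T X (K ∪ K')) (θ ∘ c) (θ' ∘ c) g ≠ 0) :
    ∀ (m : Y) (hm : m ∈ MJ cs h X K), θ ⟨m, hm⟩ = θ' ⟨g⁻¹ * m * g, conj_mem_MJ R hg hp hm⟩ := by
  classical
  have hgn := inv_mem (rp_mem_normalizer_MJ R hg hp)
  have : Fintype (MJ cs h X K) := Fintype.ofFinite _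
  have hm : ∀ m ∈ MJ cs h X K, g⁻¹ * m * g ∈ MJ cs h X K := fun m hm => conj_mem_MJ R hg hp hm
  by_cases he : θ = θ' ∘ conjME (MJ cs h X K) hgn
  · intro m hm'
    have h2 := congrFun he ⟨m, hm'⟩
    rw [h2, Function.comp_apply]
    congr 1
    apply Subtype.ext
    rw [conjME_coe, inv_inv]
  · exfalso
    apply h1
    refine twist_eq_zero_of_sub _ (Core.isCharacter_comp c (Core.isIrr_isCharacter hθ))
      (Core.isCharacter_comp c (Core.isIrr_isCharacter hθ')) g (MJ cs h X K) MJ_le_left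
      (fun m h1 => MJ_le_left (hm m h1)) ?_
    have h3 : ∀ l : MJ cs h X K, (θ ∘ c) ⟨l, MJ_le_left l.2⟩ *
        conj ((θ' ∘ c) ⟨g⁻¹ * l * g, MJ_le_left (hm l l.2)⟩) =
        θ l * conj ((θ' ∘ conjME (MJ cs h X K) hgn) l) := by
      intro l
      have e2 : (⟨g⁻¹ * l * g, hm l l.2⟩ : MJ cs h X K) = conjME (MJ cs h X K) hgn l := by
        apply Subtype.ext
        rw [conjME_coe, inv_inv]
      rw [Function.comp_apply, Function.comp_apply, hc.fix l l.2, hc.fix _ (hm l l.2), e2, Function.comp_apply]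
    rw [Finset.sum_congr rfl fun l _ => h3 l]
    have h4 := Core.classInner_irr_ne hθ
      (Core.isIrr_comp (conjME _ hgn).toMonoidHom (MulEquiv.surjective _) hθ') he
    rw [Core.classInner_def, mul_eq_zero] at h4
    rcases h4 with h4 | h4
    · exact absurd (inv_eq_zero.1 h4) Core.card_ne_zero_complex
    · exact h4

end Ret

/-- the minimal `w` which permute the simple roots of `K` and transport `θ'` to `θ` -/
def Sset (R : RGD cs h p T n X) (K K' : Set I) (θ θ' : ↥(MJ cs h X K) → ℂ) : Set W :=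
  {w | Min cs h (K ∪ K') w ∧ ∃ hp : Perm cs h K w, ∃ g, ∃ hg : Rp cs R.nsys w g,
    ∀ (m : Y) (hm : m ∈ MJ cs h X K), θ ⟨m, hm⟩ = θ' ⟨g⁻¹ * m * g, conj_mem_MJ R hg hp hm⟩}

section bound

variable (R : RGD cs h p T n X)

include R

theorem min_one (J : Set I) : Min cs h J (1 : W) :=
  ⟨fun i _ => by rw [inv_one, map_one, Module.End.one_apply]; exact sr_nonneg i,
    fun i _ => by rw [map_one, Module.End.one_apply]; exact sr_nonneg i⟩

/-- every element is `a g b`, `a, b ∈ P_J`, `g` over a minimal `w` -/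
theorem exists_min [Finite W] (hG : GG cs h T X = ⊤) (J : Set I) (x : Y) :
    ∃ a ∈ PJ cs h T X J, ∃ b ∈ PJ cs h T X J, ∃ w g, Rp cs R.nsys w g ∧ x = a * g * b ∧ Min cs h J w := by
  by_cases hx : x ∈ PJ cs h T X J
  · exact ⟨x, hx, 1, one_mem _, 1, 1, rp_one, by simp, min_one R J⟩
  · obtain ⟨a, ha, b, hb, w, g, hg, e, -, h1, h2⟩ := exists_min_rep R hG J hx
    exact ⟨a, ha, b, hb, w, g, hg, e, h1, h2⟩

theorem T_le_PJ (J : Set I) : T ≤ PJ cs h T X J := le_trans T_le_LJ LJ_le_PJ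

/-- **The upper bound for the inner product.** -/
theorem inner_le_ncard [Finite W] [Fintype Y] [Fintype ↥(PJ cs h T X (K ∪ K'))] (hG : GG cs h T X = ⊤)
    (ho : Orth A K K') (hc : Ret cs h T X K K' c) {θ θ' : ↥(MJ cs h X K) → ℂ} (hθ : IsIrrCharacter _ θ)
    (hθ' : IsIrrCharacter _ θ') (hv : Van cs h X K θ) :
    ∃ m : ℕ, classInner (indFun (PJ cs h T X (K ∪ K')) (θ ∘ c)) (indFun (PJ cs h T X (K ∪ K')) (θ' ∘ c)) = m ∧
      m ≤ (Sset R K K' θ θ').ncard := by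
  classical
  choose r hr using fun w : W => exists_rp cs R.nsys w
  have hfin : (Sset R K K' θ θ').Finite := Set.toFinite _
  have hα := Core.isCharacter_comp c (Core.isIrr_isCharacter hθ)
  have hβ := Core.isCharacter_comp c (Core.isIrr_isCharacter hθ')
  obtain ⟨m, hm, hle⟩ := inner_le (T := PJ cs h T X (K ∪ K')) hα hβ (hfin.toFinset.image r) (by
    intro x hx
    obtain ⟨a, ha, b, hb, w, g, hg, rfl, hw⟩ := exists_min R hG (K ∪ K') x
    rw [twist_mul _ (Core.isCharacter_isClassFunction hα) (Core.isCharacter_isClassFunction hβ) ha hb] at hx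
    have hp : Perm cs h K w := by
      by_contra hcon
      exact hx (Ret.twist_zero R ho hc (Core.isIrr_isCharacter hθ) (Core.isIrr_isCharacter hθ') hv hg hw hcon)
    have he := Ret.eq_of_twist R hc hθ hθ' hg hp hx
    refine ⟨r w, Finset.mem_image_of_mem _ (hfin.mem_toFinset.2 ⟨hw, hp, g, hg, he⟩), ?_⟩
    refine ⟨a, ha, ((r w)⁻¹ * g) * b, mul_mem (T_le_PJ R _ ((hr w).unique hg)) hb, ?_⟩
    group) (by
    intro s hs
    obtain ⟨w, hw, rfl⟩ := Finset.mem_image.1 hs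
    obtain ⟨-, hp, -⟩ := hfin.mem_toFinset.1 hw
    exact (Ret.mterm_perm R hc hθ hθ' (hr w) hp).1)
  refine ⟨m, hm, le_trans hle (le_trans Finset.card_image_le ?_)⟩
  rw [Set.ncard_eq_toFinset_card _ hfin]

theorem inner_le_rgd [Finite W] [Fintype Y] [Fintype ↥(PJ cs h T X (K ∪ K'))] (hG : GG cs h T X = ⊤)
    (ho : Orth A K K') (hc : Ret cs h T X K K' c) {θ θ' : ↥(MJ cs h X K) → ℂ} (hθ : IsIrrCharacter _ θ)
    (hθ' : IsIrrCharacter _ θ') (hv : Van cs h X K θ) (S : Finset W)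
    (hS : ∀ w, Min cs h (K ∪ K') w → ∀ hp : Perm cs h K w, ∀ g, ∀ hg : Rp cs R.nsys w g,
      (∀ (m : Y) (hm : m ∈ MJ cs h X K), θ ⟨m, hm⟩ = θ' ⟨g⁻¹ * m * g, conj_mem_MJ R hg hp hm⟩) → w ∈ S) :
    ∃ m : ℕ, classInner (indFun (PJ cs h T X (K ∪ K')) (θ ∘ c)) (indFun (PJ cs h T X (K ∪ K')) (θ' ∘ c)) = m ∧
      m ≤ S.card := by
  obtain ⟨m, hm, hle⟩ := inner_le_ncard R hG ho hc hθ hθ' hv
  refine ⟨m, hm, le_trans hle ?_⟩
  have h1 : Sset R K K' θ θ' ⊆ (S : Set W) := by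
    rintro w ⟨h1, hp, g, hg, h2⟩
    exact hS w h1 hp g hg h2
  have h2 := Set.ncard_le_ncard h1 (Set.toFinite _)
  rwa [Set.ncard_coe_finset] at h2

end bound

/-- If every element of `D` acts on `N` as an element of `N` and the centre of `N` is trivial then there is a
homomorphism `D → N` with `x m x⁻¹ = c x m (c x)⁻¹`. -/
theorem exists_inner_hom {Y : Type*} [Group Y] (D N : Subgroup Y)
    (hcen : ∀ z ∈ N, (∀ m ∈ N, z * m = m * z) → z = 1)
    (hin : ∀ t ∈ D, ∃ a ∈ N, ∀ m ∈ N, t * m * t⁻¹ = a * m * a⁻¹) :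
    ∃ c : D →* N, ∀ (t : D) (a : Y) (ha : a ∈ N), (∀ m ∈ N, (t : Y) * m * (t : Y)⁻¹ = a * m * a⁻¹) → c t = ⟨a, ha⟩ := by
  have huniq : ∀ a ∈ N, ∀ b ∈ N, (∀ m ∈ N, a * m * a⁻¹ = b * m * b⁻¹) → a = b := by
    intro a ha b hb hab
    have h1 : b⁻¹ * a = 1 := by
      refine hcen _ (mul_mem (inv_mem hb) ha) fun m hm => ?_
      have h2 := hab m hm
      calc b⁻¹ * a * m = b⁻¹ * (a * m * a⁻¹) * a := by group
        _ = b⁻¹ * (b * m * b⁻¹) * a := by rw [h2]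
        _ = m * (b⁻¹ * a) := by group
    have h2 : a = b * (b⁻¹ * a) := by group
    rw [h2, h1, mul_one]
  choose! f hfN hf using hin
  let c : D →* N :=
    { toFun := fun t => ⟨f t, hfN t t.2⟩
      map_one' := by
        apply Subtype.ext
        change f ((1 : D) : Y) = 1
        refine huniq _ (hfN _ (1 : D).2) 1 (one_mem _) fun m hm => ?_
        rw [← hf _ (1 : D).2 m hm]
        rfl
      map_mul' := by
        rintro ⟨s, hs⟩ ⟨t, ht⟩
        apply Subtype.ext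
        change f (s * t) = f s * f t
        refine huniq _ (hfN _ (mul_mem hs ht)) _ (mul_mem (hfN s hs) (hfN t ht)) fun m hm => ?_
        rw [← hf _ (mul_mem hs ht) m hm]
        have h1 : f t * m * (f t)⁻¹ ∈ N := mul_mem (mul_mem (hfN t ht) hm) (inv_mem (hfN t ht))
        calc s * t * m * (s * t)⁻¹ = s * (t * m * t⁻¹) * s⁻¹ := by group
          _ = s * (f t * m * (f t)⁻¹) * s⁻¹ := by rw [hf t ht m hm]
          _ = f s * (f t * m * (f t)⁻¹) * (f s)⁻¹ := hf s hs _ h1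
          _ = f s * f t * m * (f s * f t)⁻¹ := by group }
  refine ⟨c, fun t a ha hta => ?_⟩
  apply Subtype.ext
  change f t = a
  refine huniq _ (hfN t t.2) a ha fun m hm => ?_
  rw [← hf t t.2 m hm, hta m hm]

section ret

variable (R : RGD cs h p T n X)

include R

/-- the elements of the Levi subgroup act on `M_K` by inner automorphisms as soon as those of `T` do -/
theorem inner_of_torus [Finite W] (ho : Orth A K K')
    (hin : ∀ t ∈ T, ∃ a ∈ MJ cs h X K, ∀ m ∈ MJ cs h X K, t * m * t⁻¹ = a * m * a⁻¹) :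
    ∀ t ∈ LJ cs h T X (K ∪ K'), ∃ a ∈ MJ cs h X K, ∀ m ∈ MJ cs h X K, t * m * t⁻¹ = a * m * a⁻¹ := by
  intro l hl
  have hle : LJ cs h T X (K ∪ K') ≤
      { carrier := {t | ∃ a ∈ MJ cs h X K, ∀ m ∈ MJ cs h X K, t * m * t⁻¹ = a * m * a⁻¹}
        one_mem' := ⟨1, one_mem _, fun m _ => rfl⟩
        mul_mem' := by
          rintro s t ⟨a, ha, h1⟩ ⟨b, hb, h2⟩
          refine ⟨a * b, mul_mem ha hb, fun m hm => ?_⟩
          have h3 : b * m * b⁻¹ ∈ MJ cs h X K := mul_mem (mul_mem hb hm) (inv_mem hb)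
          calc s * t * m * (s * t)⁻¹ = s * (t * m * t⁻¹) * s⁻¹ := by group
            _ = s * (b * m * b⁻¹) * s⁻¹ := by rw [h2 m hm]
            _ = a * (b * m * b⁻¹) * a⁻¹ := h1 _ h3
            _ = a * b * m * (a * b)⁻¹ := by group
        inv_mem' := by
          rintro s ⟨a, ha, h1⟩
          refine ⟨a⁻¹, inv_mem ha, fun m hm => ?_⟩
          have h3 : a⁻¹ * m * a ∈ MJ cs h X K := mul_mem (mul_mem (inv_mem ha) hm) ha
          have h4 := h1 _ h3
          have h5 : a * (a⁻¹ * m * a) * a⁻¹ = m := by group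
          rw [h5] at h4
          calc s⁻¹ * m * s⁻¹⁻¹ = s⁻¹ * (s * (a⁻¹ * m * a) * s⁻¹) * s⁻¹⁻¹ := by rw [h4]
            _ = a⁻¹ * m * a⁻¹⁻¹ := by group : Subgroup Y } := by
    rw [LJ_eq, ho.MJ_union]
    refine sup_le hin (sup_le ?_ ?_)
    · intro m hm
      exact ⟨m, hm, fun _ _ => rfl⟩
    · intro m' hm'
      refine ⟨1, one_mem _, fun m hm => ?_⟩
      have h1 := ho.comm R m hm m' hm'
      calc m' * m * m'⁻¹ = m * m' * m'⁻¹ := by rw [h1]
        _ = 1 * m * 1⁻¹ := by group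
  exact hle hl

/-- **The retraction `P → M_K` exists.** -/
theorem exists_ret [Finite W] (ho : Orth A K K')
    (hcen : ∀ z ∈ MJ cs h X K, (∀ m ∈ MJ cs h X K, z * m = m * z) → z = 1)
    (hin : ∀ t ∈ T, ∃ a ∈ MJ cs h X K, ∀ m ∈ MJ cs h X K, t * m * t⁻¹ = a * m * a⁻¹) :
    ∃ c : ↥(PJ cs h T X (K ∪ K')) →* ↥(MJ cs h X K), Ret cs h T X K K' c := by
  obtain ⟨d, hd⟩ := exists_inner_hom (LJ cs h T X (K ∪ K')) (MJ cs h X K) hcen (inner_of_torus R ho hin)
  obtain ⟨π, hπ1, hπ2⟩ := exists_projL R (K ∪ K')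
  refine ⟨d.comp π, ⟨fun m hm => ?_, fun v hv => ?_, fun m' hm' => ?_⟩⟩
  · have h1 : m ∈ LJ cs h T X (K ∪ K') := MJ_le_LJ _ (MJ_mono Set.subset_union_left hm)
    rw [MonoidHom.comp_apply, hπ1 m h1]
    exact hd ⟨m, h1⟩ m hm fun _ _ => rfl
  · rw [MonoidHom.comp_apply, hπ2 v hv, map_one]
  · have h1 : m' ∈ LJ cs h T X (K ∪ K') := MJ_le_LJ _ (MJ_mono Set.subset_union_right hm')
    rw [MonoidHom.comp_apply, hπ1 m' h1]
    refine hd ⟨m', h1⟩ 1 (one_mem _) fun m hm => ?_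
    have h2 := ho.comm R m hm m' hm'
    calc m' * m * m'⁻¹ = m * m' * m'⁻¹ := by rw [h2]
      _ = 1 * m * 1⁻¹ := by group

/-- a retraction commutes with the action of the Levi subgroup -/
theorem Ret.conj_eq (hc : Ret cs h T X K K' c) {l : Y}
    (hl : l ∈ LJ cs h T X (K ∪ K')) {m : Y} (hm : m ∈ MJ cs h X K) (h1 : l * m * l⁻¹ ∈ MJ cs h X K) :
    l * m * l⁻¹ = c ⟨l, LJ_le_PJ hl⟩ * m * ((c ⟨l, LJ_le_PJ hl⟩ : ↥(MJ cs h X K)) : Y)⁻¹ := by
  have h2 := hc.fix _ h1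
  have h3 : (⟨l * m * l⁻¹, MJ_le_left h1⟩ : ↥(PJ cs h T X (K ∪ K'))) =
      ⟨l, LJ_le_PJ hl⟩ * ⟨m, MJ_le_left hm⟩ * ⟨l, LJ_le_PJ hl⟩⁻¹ := rfl
  rw [h3, map_mul, map_mul, map_inv, hc.fix m hm] at h2
  exact (congrArg Subtype.val h2).symm

/-- the Levi subgroup normalises `M_K` -/
theorem LJ_norm [Finite W] (ho : Orth A K K') {l : Y} (hl : l ∈ LJ cs h T X (K ∪ K')) {m : Y}
    (hm : m ∈ MJ cs h X K) : l * m * l⁻¹ ∈ MJ cs h X K := by
  have hle : LJ cs h T X (K ∪ K') ≤ Subgroup.normalizer (MJ cs h X K : Set Y) := by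
    rw [LJ_eq, ho.MJ_union]
    refine sup_le (T_le_normalizer_MJ R K) (sup_le Subgroup.le_normalizer ?_)
    intro m' hm'
    rw [Subgroup.mem_normalizer_iff]
    intro m
    constructor
    · intro hm
      rw [← ho.comm R m hm m' hm', mul_inv_cancel_right]
      exact hm
    · intro hm
      have h2 := ho.comm R _ hm m'⁻¹ (inv_mem hm')
      have h3 : m = m'⁻¹ * (m' * m * m'⁻¹) * m' := by group
      rw [h3, ← h2, inv_mul_cancel_right]
      exact hm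
  exact (Subgroup.mem_normalizer_iff.1 (hle hl) m).1 hm

end ret

end Cfsg.Agent.H627.Gow
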